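import Groth.Prelude.Def_Tors
import Mathlib.CategoryTheory.Sites.SheafCohomology.Basic
import Mathlib.CategoryTheory.Sites.LeftExact
import Mathlib.CategoryTheory.Sites.LocallySurjective
import Mathlib.Algebra.Homology.DerivedCategory.Ext.ExactSequences

/-!
# Compatible families of sections and torsors: basic tools
-/

set_option autoImplicit false
set_option linter.style.haveILetI false
set_option backward.isDefEq.respectTransparency false
set_option backward.isDefEq.respectTransparency.types false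

universe u

open CategoryTheory CategoryTheory.Limits Opposite

namespace Groth.Agent.H15Site.TorsH1

variable {C : Type u} [SmallCategory C] {J : GrothendieckTopology C}

/-- The constant sheaf of integers. -/
noncomputable abbrev ZZ (J : GrothendieckTopology C) : Sheaf J AddCommGrpCat.{u} :=
  (constantSheaf J AddCommGrpCat.{u}).obj (AddCommGrpCat.of (ULift.{u} ℤ))

/-- The one of the constant sheaf. -/
noncomputable def one (J : GrothendieckTopology C) (U : Cᵒᵖ) : (ZZ J).obj.obj U :=
  (toSheafify J ((Functor.const Cᵒᵖ).obj (AddCommGrpCat.of (ULift.{u} ℤ)))).app U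
    (ULift.up (1 : ℤ) : ULift.{u} ℤ)

theorem one_map {U V : Cᵒᵖ} (h : U ⟶ V) : (ZZ J).obj.map h (one J U) = one J V :=
  (ConcreteCategory.congr_hom ((toSheafify J ((Functor.const Cᵒᵖ).obj (AddCommGrpCat.of (ULift.{u} ℤ)))).naturality h)
    (ULift.up (1 : ℤ) : ULift.{u} ℤ)).symm

variable {F F' : Sheaf J AddCommGrpCat.{u}}

/-- The value of a morphism from the constant sheaf at one. -/
noncomputable def ev (φ : ZZ J ⟶ F) (U : Cᵒᵖ) : F.obj.obj U := φ.hom.app U (one J U)

theorem ev_map (φ : ZZ J ⟶ F) {U V : Cᵒᵖ} (h : U ⟶ V) : F.obj.map h (ev φ U) = ev φ V := by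
  have e := ConcreteCategory.congr_hom (φ.hom.naturality h) (one J U)
  exact e.symm.trans (congrArg (φ.hom.app V) (one_map h))

theorem ev_comp (φ : ZZ J ⟶ F) (α : F ⟶ F') (U : Cᵒᵖ) : ev (φ ≫ α) U = α.hom.app U (ev φ U) := rfl

theorem hom_ext {φ φ' : ZZ J ⟶ F} (h : ∀ U, ev φ U = ev φ' U) : φ = φ' := by
  refine ObjectProperty.hom_ext _ (sheafify_hom_ext J φ.hom φ'.hom F.property ?_)
  refine NatTrans.ext (funext fun U => AddCommGrpCat.hom_ext (AddMonoidHom.ext fun n => ?_))
  have hn : n = n.down • (ULift.up (1 : ℤ) : ULift.{u} ℤ) := ULift.ext _ _ (by simp [ULift.smul_down])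
  rw [hn, map_zsmul, map_zsmul]
  exact congrArg (n.down • ·) (h U)

/-- The morphism from the constant sheaf given by a compatible family. -/
noncomputable def glob (s : ∀ U, F.obj.obj U) (hs : ∀ {U V : Cᵒᵖ} (h : U ⟶ V), F.obj.map h (s U) = s V) :
    ZZ J ⟶ F :=
  ⟨sheafifyLift J
    { app := fun U => AddCommGrpCat.ofHom (AddMonoidHom.mk' (fun n : ULift.{u} ℤ => n.down • s U)
        (fun a b => add_zsmul _ _ _))
      naturality := fun U V h => by
        ext n
        show n.down • s V = F.obj.map h (n.down • s U)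
        rw [map_zsmul, hs] } F.property⟩

theorem ev_glob (s : ∀ U, F.obj.obj U) (hs : ∀ {U V : Cᵒᵖ} (h : U ⟶ V), F.obj.map h (s U) = s V) (U : Cᵒᵖ) :
    ev (glob s hs) U = s U := by
  have e := congr_app (toSheafify_sheafifyLift J (P := (Functor.const Cᵒᵖ).obj (AddCommGrpCat.of (ULift.{u} ℤ)))
    { app := fun U => AddCommGrpCat.ofHom (AddMonoidHom.mk' (fun n : ULift.{u} ℤ => n.down • s U)
        (fun a b => add_zsmul _ _ _))
      naturality := fun U V h => by
        ext n
        show n.down • s V = F.obj.map h (n.down • s U)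
        rw [map_zsmul, hs] } F.property) U
  exact (ConcreteCategory.congr_hom e (ULift.up (1 : ℤ) : ULift.{u} ℤ)).trans (one_zsmul _)

section Sheaves

/-- Gluing of sections of an abelian sheaf on a covering sieve. -/
theorem glue_ab (F : Sheaf J AddCommGrpCat.{u}) {U : C} (S : Sieve U) (hS : S ∈ J U)
    (x : ∀ ⦃V : C⦄ (h : V ⟶ U), S h → F.obj.obj (op V))
    (hx : ∀ ⦃V W : C⦄ (h : V ⟶ U) (g : W ⟶ V) (hh : S h), x (g ≫ h) (S.downward_closed hh g) = F.obj.map g.op (x h hh)) :
    ∃! t : F.obj.obj (op U), ∀ ⦃V : C⦄ (h : V ⟶ U) (hh : S h), F.obj.map h.op t = x h hh := by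
  have hF : Presieve.IsSheaf J (F.obj ⋙ forget AddCommGrpCat.{u}) :=
    (isSheaf_iff_isSheaf_of_type _ _).1 ((sheafCompose J (forget AddCommGrpCat.{u})).obj F).property
  refine hF S hS (fun V h hh => x h hh) ((Presieve.compatible_iff_sieveCompatible _).2 ?_)
  exact fun V W h g hh => hx h g hh

/-- Gluing of sections of a sheaf of sets on a covering sieve. -/
theorem glue (P : Sheaf J (Type u)) {U : C} (S : Sieve U) (hS : S ∈ J U)
    (x : ∀ ⦃V : C⦄ (h : V ⟶ U), S h → P.obj.obj (op V))
    (hx : ∀ ⦃V W : C⦄ (h : V ⟶ U) (g : W ⟶ V) (hh : S h), x (g ≫ h) (S.downward_closed hh g) = P.obj.map g.op (x h hh)) :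
    ∃! t : P.obj.obj (op U), ∀ ⦃V : C⦄ (h : V ⟶ U) (hh : S h), P.obj.map h.op t = x h hh := by
  have hF : Presieve.IsSheaf J P.obj := (isSheaf_iff_isSheaf_of_type _ _).1 P.property
  refine hF S hS (fun V h hh => x h hh) ((Presieve.compatible_iff_sieveCompatible _).2 ?_)
  exact fun V W h g hh => hx h g hh

theorem sep_ab (F : Sheaf J AddCommGrpCat.{u}) {U : C} (S : Sieve U) (hS : S ∈ J U) {s t : F.obj.obj (op U)}
    (h : ∀ ⦃V : C⦄ (g : V ⟶ U), S g → F.obj.map g.op s = F.obj.map g.op t) : s = t := by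
  obtain ⟨a, -, ha⟩ := glue_ab F S hS (fun V g _ => F.obj.map g.op t) fun V W g k _ => by
    rw [op_comp, Functor.map_comp]; rfl
  exact (ha s fun V g hg => h g hg).trans (ha t fun _ _ _ => rfl).symm

theorem sep (P : Sheaf J (Type u)) {U : C} (S : Sieve U) (hS : S ∈ J U) {s t : P.obj.obj (op U)}
    (h : ∀ ⦃V : C⦄ (g : V ⟶ U), S g → P.obj.map g.op s = P.obj.map g.op t) : s = t := by
  obtain ⟨a, -, ha⟩ := glue P S hS (fun V g _ => P.obj.map g.op t) fun V W g k _ => by
    rw [op_comp, Functor.map_comp]; rfl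
  exact (ha s fun V g hg => h g hg).trans (ha t fun _ _ _ => rfl).symm

end Sheaves

end Groth.Agent.H15Site.TorsH1
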