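import Groth.Agent.H15Site.TorsH1.Basic
import Mathlib.Algebra.Homology.DerivedCategory.Ext.EnoughInjectives
import Mathlib.CategoryTheory.Sites.EpiMono
import Mathlib.Data.Finsupp.Basic
import Mathlib.Algebra.Category.Grp.EpiMono

/-!
# `H¹` vanishes iff torsors have sections
-/

set_option autoImplicit false
set_option linter.style.haveILetI false
set_option linter.unusedSectionVars false
set_option backward.isDefEq.respectTransparency false
set_option backward.isDefEq.respectTransparency.types false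

universe u

open CategoryTheory CategoryTheory.Limits Opposite Abelian

namespace Groth.Agent.H15Site.TorsH1

variable {C : Type u} [SmallCategory C] {J : GrothendieckTopology C}

theorem vadd_left_cancel {G : Sheaf J AddCommGrpCat.{u}} (T : Tors.Torsor G) {U : Cᵒᵖ} {g g' : G.obj.obj U}
    {p : T.P.obj.obj U} (h : T.vadd g p = T.vadd g' p) : g = g' :=
  (T.free_transitive p (T.vadd g' p)).unique h rfl

section Lifts

variable {S : ShortComplex (Sheaf J AddCommGrpCat.{u})} (hS : S.ShortExact) (q : ZZ J ⟶ S.X₃)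

theorem g_f_app (U : Cᵒᵖ) (a : S.X₁.obj.obj U) : S.g.hom.app U (S.f.hom.app U a) = 0 := by
  have h := congr_app (congrArg (fun φ => φ.hom) S.zero) U
  exact ConcreteCategory.congr_hom h a

include hS in
theorem exact_sections (U : Cᵒᵖ) :
    Function.Injective (S.f.hom.app U) ∧ ∀ i, S.g.hom.app U i = 0 → ∃ a, S.f.hom.app U a = i := by
  let E := sheafToPresheaf J AddCommGrpCat.{u} ⋙ (evaluation Cᵒᵖ AddCommGrpCat.{u}).obj U
  haveI := hS.mono_f
  haveI : PreservesFiniteLimits (sheafToPresheaf J AddCommGrpCat.{u}) := inferInstance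
  haveI : PreservesFiniteLimits E := inferInstance
  haveI : E.Additive := inferInstance
  have hmono : Mono (E.map S.f) := inferInstance
  refine ⟨(AddCommGrpCat.mono_iff_injective _).1 hmono, fun i hi => ?_⟩
  have hex : (S.map E).Exact :=
    (Functor.preservesFiniteLimits_iff_forall_exact_map_and_mono E).1 inferInstance S hS |>.1
  rw [ShortComplex.ab_exact_iff] at hex
  exact hex i hi

/-- The sheaf of local lifts. -/
noncomputable def liftPre : Cᵒᵖ ⥤ Type u where
  obj U := {i : S.X₂.obj.obj U // S.g.hom.app U i = ev q U}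
  map {U V} h := ↾fun i => ⟨S.X₂.obj.map h i.1,
    (ConcreteCategory.congr_hom (S.g.hom.naturality h) i.1).trans
      ((congrArg (S.X₃.obj.map h) i.2).trans (ev_map q h))⟩
  map_id U := by
    ext i
    exact ConcreteCategory.congr_hom (S.X₂.obj.map_id U) i.1
  map_comp f g := by
    ext i
    exact ConcreteCategory.congr_hom (S.X₂.obj.map_comp f g) i.1

theorem isSheaf_liftPre : Presheaf.IsSheaf J (liftPre q) := by
  rw [isSheaf_iff_isSheaf_of_type]
  intro U R hR x hx
  have hx' := (Presieve.compatible_iff_sieveCompatible _).1 hx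
  obtain ⟨t, ht, htu⟩ := glue_ab S.X₂ R hR (fun V h hh => (x h hh).1)
    fun V W h g hh => congrArg Subtype.val (hx' h g hh)
  have hm : S.g.hom.app (op U) t = ev q (op U) := by
    refine sep_ab S.X₃ R hR fun V h hh => ?_
    rw [ev_map, ← (x h hh).2, ← ht h hh]
    exact (ConcreteCategory.congr_hom (S.g.hom.naturality h.op) t).symm
  exact ⟨⟨t, hm⟩, fun V h hh => Subtype.ext (ht h hh),
    fun y hy => Subtype.ext (htu y.1 fun V h hh => congrArg Subtype.val (hy h hh))⟩

/-- The torsor of lifts. -/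
noncomputable def liftTorsor : Tors.Torsor S.X₁ where
  P := ⟨liftPre q, isSheaf_liftPre q⟩
  vadd {U} a i := ⟨S.f.hom.app U a + i.1, by rw [map_add, g_f_app, zero_add]; exact i.2⟩
  zero_vadd i := Subtype.ext (by simp)
  add_vadd a b i := Subtype.ext (by simp [add_assoc])
  map_vadd {U V} h a i := Subtype.ext (by
    show S.X₂.obj.map h (S.f.hom.app U a + i.1) = S.f.hom.app V (S.X₁.obj.map h a) + S.X₂.obj.map h i.1
    rw [map_add]
    exact congrArg (· + _) (ConcreteCategory.congr_hom (S.f.hom.naturality h) a).symm)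
  free_transitive {U} i j := by
    obtain ⟨hinj, hex⟩ := exact_sections hS U
    obtain ⟨a, ha⟩ := hex (j.1 - i.1) (by rw [map_sub, i.2, j.2, sub_self])
    refine ⟨a, Subtype.ext (by show S.f.hom.app U a + i.1 = j.1; rw [ha, sub_add_cancel]), fun b hb => hinj ?_⟩
    rw [ha]
    exact eq_sub_of_add_eq (congrArg Subtype.val hb)
  locally_nonempty U := by
    haveI := hS.epi_g
    haveI : Sheaf.IsLocallySurjective S.g := (Sheaf.isLocallySurjective_iff_epi' AddCommGrpCat.{u} S.g).2 inferInstance
    refine ⟨_, Presheaf.imageSieve_mem J S.g.hom (ev q (op U)), fun V h ⟨i, hi⟩ => ⟨⟨i, ?_⟩⟩⟩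
    exact hi.trans (ev_map q h.op)

end Lifts

section Ext

variable {G : Sheaf J AddCommGrpCat.{u}}

/-- The relations of the universal extension attached to a torsor. -/
noncomputable def rel (T : Tors.Torsor G) (U : Cᵒᵖ) : AddSubgroup ((G.obj.obj U) × (T.P.obj.obj U →₀ ℤ)) :=
  AddSubgroup.closure {x | ∃ g p, x = (g, Finsupp.single p 1 - Finsupp.single (T.vadd g p) 1)}

theorem eq_zero_of_mem_rel (T : Tors.Torsor G) {U : Cᵒᵖ} {g : G.obj.obj U} (h : (g, (0 : T.P.obj.obj U →₀ ℤ)) ∈ rel T U) :
    g = 0 := by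
  classical
  by_cases hP : Nonempty (T.P.obj.obj U)
  · obtain ⟨p₀⟩ := hP
    let d : T.P.obj.obj U → G.obj.obj U := fun p => (T.free_transitive p₀ p).choose
    have hd : ∀ g p, d (T.vadd g p) = g + d p := fun g p => by
      refine ((T.free_transitive p₀ (T.vadd g p)).choose_spec.2 _ ?_).symm
      show T.vadd (g + d p) p₀ = T.vadd g p
      rw [T.add_vadd, (T.free_transitive p₀ p).choose_spec.1]
    let Φ : (G.obj.obj U) × (T.P.obj.obj U →₀ ℤ) →+ G.obj.obj U :=
      (AddMonoidHom.fst _ _) + (Finsupp.liftAddHom fun p => zmultiplesHom _ (d p)).comp (AddMonoidHom.snd _ _)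
    have hΦ : rel T U ≤ Φ.ker := by
      rw [rel, AddSubgroup.closure_le]
      rintro _ ⟨a, p, rfl⟩
      show Φ _ = 0
      simp only [Φ, AddMonoidHom.add_apply, AddMonoidHom.coe_fst, AddMonoidHom.coe_comp, Function.comp_apply,
        AddMonoidHom.coe_snd, map_sub, Finsupp.liftAddHom_apply_single]
      simp [hd]
    have := hΦ h
    simpa [Φ] using this
  · have : rel T U ≤ ⊥ := by
      rw [rel, AddSubgroup.closure_le]
      rintro _ ⟨a, p, -⟩
      exact absurd ⟨p⟩ hP
    exact congrArg Prod.fst ((AddSubgroup.mem_bot).1 (this h))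

/-- The restriction on pairs. -/
noncomputable def mapPair (T : Tors.Torsor G) {U V : Cᵒᵖ} (h : U ⟶ V) :
    (G.obj.obj U) × (T.P.obj.obj U →₀ ℤ) →+ (G.obj.obj V) × (T.P.obj.obj V →₀ ℤ) :=
  (G.obj.map h).hom.prodMap (Finsupp.mapDomain.addMonoidHom (T.P.obj.map h))

theorem rel_le (T : Tors.Torsor G) {U V : Cᵒᵖ} (h : U ⟶ V) : rel T U ≤ (rel T V).comap (mapPair T h) := by
  classical
  rw [rel, AddSubgroup.closure_le]
  rintro _ ⟨g, p, rfl⟩
  refine AddSubgroup.subset_closure ⟨G.obj.map h g, T.P.obj.map h p, ?_⟩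
  simp [mapPair, Finsupp.mapDomain_single, Finsupp.mapDomain.addMonoidHom, Finsupp.mapDomain_sub, T.map_vadd]

/-- The presheaf of the universal extension. -/
noncomputable def extPre (T : Tors.Torsor G) : Cᵒᵖ ⥤ AddCommGrpCat.{u} where
  obj U := AddCommGrpCat.of (((G.obj.obj U) × (T.P.obj.obj U →₀ ℤ)) ⧸ rel T U)
  map {U V} h := AddCommGrpCat.ofHom (QuotientAddGroup.map _ _ (mapPair T h) (rel_le T h))
  map_id U := by
    refine AddCommGrpCat.hom_ext (QuotientAddGroup.addMonoidHom_ext _ (AddMonoidHom.ext fun x => ?_))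
    refine congrArg (QuotientAddGroup.mk' (rel T U)) (Prod.ext ?_ ?_)
    · simp [mapPair]
    · show Finsupp.mapDomain (T.P.obj.map (𝟙 U)) x.2 = x.2
      rw [T.P.obj.map_id]
      exact Finsupp.mapDomain_id
  map_comp {U V W} f g := by
    refine AddCommGrpCat.hom_ext (QuotientAddGroup.addMonoidHom_ext _ (AddMonoidHom.ext fun x => ?_))
    refine congrArg (QuotientAddGroup.mk' (rel T W)) (Prod.ext ?_ ?_)
    · simp [mapPair]
    · show Finsupp.mapDomain (T.P.obj.map (f ≫ g)) x.2 =
        Finsupp.mapDomain (T.P.obj.map g) (Finsupp.mapDomain (T.P.obj.map f) x.2)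
      rw [← Finsupp.mapDomain_comp]
      exact congrArg (fun k => Finsupp.mapDomain k x.2) (funext fun p => by simp)

/-- The universal extension. -/
noncomputable def extSh (T : Tors.Torsor G) : Sheaf J AddCommGrpCat.{u} :=
  (presheafToSheaf J AddCommGrpCat.{u}).obj (extPre T)

/-- The inclusion of `G`. -/
noncomputable def inG (T : Tors.Torsor G) : G ⟶ extSh T :=
  ⟨{ app := fun U => AddCommGrpCat.ofHom
        ((QuotientAddGroup.mk' (rel T U)).comp (AddMonoidHom.inl (G.obj.obj U) (T.P.obj.obj U →₀ ℤ)))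
     naturality := fun U V h => by
      ext g
      exact congrArg (QuotientAddGroup.mk' (rel T V)) (Prod.ext rfl (by simp [mapPair, Finsupp.mapDomain.addMonoidHom])) } ≫
    toSheafify J (extPre T)⟩

instance mono_inG (T : Tors.Torsor G) : Mono (inG T) := by
  refine Functor.mono_of_mono_map (sheafToPresheaf _ _) ?_
  refine @NatTrans.mono_of_mono_app _ _ _ _ _ _ _ fun U => ?_
  refine (AddCommGrpCat.mono_iff_injective _).2 ((injective_iff_map_eq_zero _).2 fun g hg => ?_)
  obtain ⟨U⟩ := U
  let c : (extPre T).obj (op U) := QuotientAddGroup.mk' (rel T (op U)) (g, 0)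
  have hc : (toSheafify J (extPre T)).app (op U) c = (toSheafify J (extPre T)).app (op U) 0 := hg.trans (map_zero _).symm
  refine sep_ab G _ (Presheaf.equalizerSieve_mem J (toSheafify J (extPre T)) c 0 hc) fun V h hh => ?_
  rw [map_zero]
  refine eq_zero_of_mem_rel T (U := op V) ?_
  rw [← QuotientAddGroup.eq_zero_iff]
  have h1 : (extPre T).map h.op c = 0 := (show (extPre T).map h.op c = (extPre T).map h.op 0 from hh).trans (map_zero _)
  refine Eq.trans ?_ h1
  exact congrArg (QuotientAddGroup.mk' (rel T (op V))) (Prod.ext rfl (by simp [mapPair, Finsupp.mapDomain.addMonoidHom]))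

/-- The tautological section of the extension. -/
noncomputable def unitP (T : Tors.Torsor G) (U : Cᵒᵖ) (p : T.P.obj.obj U) : (extSh T).obj.obj U :=
  (toSheafify J (extPre T)).app U (QuotientAddGroup.mk' (rel T U) (0, Finsupp.single p 1))

theorem unitP_map (T : Tors.Torsor G) {U V : Cᵒᵖ} (h : U ⟶ V) (p : T.P.obj.obj U) :
    (extSh T).obj.map h (unitP T U p) = unitP T V (T.P.obj.map h p) := by
  refine (ConcreteCategory.congr_hom ((toSheafify J (extPre T)).naturality h) _).symm.trans ?_
  refine congrArg ((toSheafify J (extPre T)).app V) ?_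
  refine congrArg (QuotientAddGroup.mk' (rel T V)) (Prod.ext ?_ ?_)
  · simp [mapPair]
  · simp [mapPair, Finsupp.mapDomain.addMonoidHom, Finsupp.mapDomain_single]

theorem unitP_vadd (T : Tors.Torsor G) {U : Cᵒᵖ} (g : G.obj.obj U) (p : T.P.obj.obj U) :
    unitP T U (T.vadd g p) = (inG T).hom.app U g + unitP T U p := by
  refine Eq.trans ?_ (map_add ((toSheafify J (extPre T)).app U).hom _ _)
  refine congrArg ((toSheafify J (extPre T)).app U) ?_
  refine ((QuotientAddGroup.eq_iff_sub_mem).2 ?_).symm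
  refine AddSubgroup.subset_closure ⟨g, p, ?_⟩
  exact Prod.ext (by simp) (by simp)

end Ext

/-- The theorem. -/
theorem iff_torsors [HasExt.{u} (Sheaf J AddCommGrpCat.{u})] [EnoughInjectives (Sheaf J AddCommGrpCat.{u})]
    (G : Sheaf J AddCommGrpCat.{u}) :
    Subsingleton (Ext.{u} (ZZ J) G 1) ↔ ∀ T : Tors.Torsor G, T.HasSection := by
  let ι := Injective.ι G
  let S : ShortComplex (Sheaf J AddCommGrpCat.{u}) := ShortComplex.mk ι (cokernel.π ι) (cokernel.condition ι)
  have hS : S.ShortExact :=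
    { exact := ShortComplex.exact_of_g_is_cokernel _ (cokernelIsCokernel ι)
      mono_f := inferInstanceAs (Mono ι)
      epi_g := inferInstanceAs (Epi (cokernel.π ι)) }
  constructor
  · intro hH T
    classical
    let ψ : extSh T ⟶ Injective.under G := Injective.factorThru ι (inG T)
    let f : ∀ U, T.P.obj.obj U → S.X₂.obj.obj U := fun U p => ψ.hom.app U (unitP T U p)
    have hfv : ∀ U g p, f U (T.vadd g p) = S.f.hom.app U g + f U p := fun U g p => by
      show ψ.hom.app U (unitP T U (T.vadd g p)) = _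
      rw [unitP_vadd, map_add]
      refine congrArg (· + _) ?_
      exact ConcreteCategory.congr_hom (congr_app (congrArg (fun φ => φ.hom) (Injective.comp_factorThru ι (inG T))) U) g
    have hfm : ∀ {U V : Cᵒᵖ} (h : U ⟶ V) p, S.X₂.obj.map h (f U p) = f V (T.P.obj.map h p) := fun {U V} h p => by
      refine (ConcreteCategory.congr_hom (ψ.hom.naturality h) (unitP T U p)).symm.trans ?_
      exact congrArg (ψ.hom.app V) (unitP_map T h p)
    have hconst : ∀ U p p', S.g.hom.app U (f U p) = S.g.hom.app U (f U p') := fun U p p' => by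
      obtain ⟨g, hg, -⟩ := T.free_transitive p p'
      rw [← hg, hfv, map_add, g_f_app, zero_add]
    have hq : ∀ U : C, ∃! t : S.X₃.obj.obj (op U), ∀ ⦃V : C⦄ (h : V ⟶ U) (p : T.P.obj.obj (op V)),
        S.X₃.obj.map h.op t = S.g.hom.app (op V) (f (op V) p) := fun U => by
      obtain ⟨R, hR, hne⟩ := T.locally_nonempty U
      obtain ⟨t, ht, htu⟩ := glue_ab S.X₃ R hR (fun V h hh => S.g.hom.app (op V) (f (op V) (hne h hh).some))
        fun V W h k hh => by
          rw [hconst (op W) _ (T.P.obj.map k.op (hne h hh).some), ← hfm]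
          exact ConcreteCategory.congr_hom (S.g.hom.naturality k.op) _
      refine ⟨t, fun V h p => ?_, fun t' ht' => htu t' fun V h hh => ht' h _⟩
      refine sep_ab S.X₃ _ (J.pullback_stable h hR) fun W k hk => ?_
      have e := ConcreteCategory.congr_hom (S.g.hom.naturality k.op) (f (op V) p)
      simp only [ConcreteCategory.comp_apply] at e
      rw [← e, hfm, ← ConcreteCategory.comp_apply, ← Functor.map_comp, ← op_comp, ht _ hk]
      exact hconst _ _ _
    choose t ht htu using hq
    let q : ZZ J ⟶ S.X₃ := glob (fun U => t U.unop) fun {U V} h => htu V.unop _ fun W k p => by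
      rw [← ConcreteCategory.comp_apply, ← Functor.map_comp]
      exact ht U.unop (k ≫ h.unop) p
    obtain ⟨l₀, hl₀⟩ := Ext.covariant_sequence_exact₃ (ZZ J) hS (Ext.mk₀ q) (rfl : 0 + 1 = 1) (Subsingleton.elim _ _)
    obtain ⟨l, rfl⟩ := (Ext.mk₀_bijective (ZZ J) S.X₂).2 l₀
    rw [Ext.mk₀_comp_mk₀] at hl₀
    have hl : l ≫ S.g = q := (Ext.mk₀_bijective _ _).1 hl₀
    have huniq : ∀ U p p', f U p = f U p' → p = p' := fun U p p' h => by
      obtain ⟨g, rfl, -⟩ := T.free_transitive p p'
      rw [hfv, right_eq_add] at h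
      rw [(exact_sections hS U).1 (h.trans (map_zero _).symm), T.zero_vadd]
    have hσ : ∀ U : C, ∃ p : T.P.obj.obj (op U), f (op U) p = ev l (op U) := fun U => by
      obtain ⟨R, hR, hne⟩ := T.locally_nonempty U
      have hloc : ∀ ⦃V : C⦄ (h : V ⟶ U), R h → ∃ p : T.P.obj.obj (op V), f (op V) p = ev l (op V) := fun V h hh => by
        let p := (hne h hh).some
        obtain ⟨a, ha⟩ := (exact_sections hS (op V)).2 (ev l (op V) - f (op V) p) (by
          rw [map_sub, ← ev_comp, hl, ev_glob]
          show t V - _ = 0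
          rw [sub_eq_zero, ← ht V (𝟙 V) p, op_id, CategoryTheory.Functor.map_id]
          rfl)
        exact ⟨T.vadd a p, by rw [hfv, ha, sub_add_cancel]⟩
      choose x hx using hloc
      obtain ⟨p, hp, -⟩ := glue T.P R hR x fun V W h k hh => huniq _ _ _ (by
        rw [hx, ← hfm, hx, ev_map])
      refine ⟨p, sep_ab S.X₂ R hR fun V h hh => ?_⟩
      rw [hfm, hp h hh, hx, ev_map]
    choose σ hσ using hσ
    refine ⟨⟨{ app := fun U => ↾fun _ => σ U.unop, naturality := fun U V h => ?_ }⟩⟩
    ext x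
    exact huniq _ _ _ ((hσ V.unop).trans
      ((hfm h (σ U.unop)).symm.trans ((congrArg (S.X₂.obj.map h) (hσ U.unop)).trans (ev_map l h))).symm)
  · intro hT
    refine subsingleton_of_forall_eq 0 fun x => ?_
    obtain ⟨x₃, rfl⟩ := Ext.covariant_sequence_exact₁ (ZZ J) hS x (Ext.eq_zero_of_injective (I := Injective.under G) _) (rfl : 0 + 1 = 1)
    obtain ⟨q, rfl⟩ := (Ext.mk₀_bijective (ZZ J) S.X₃).2 x₃
    obtain ⟨σ⟩ := hT (liftTorsor hS q)
    have hne : ∀ U : Cᵒᵖ, Nonempty ((⊤_ (Sheaf J (Type u))).obj.obj U) := fun U =>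
      ⟨(Types.isTerminalEquivUnique _ (IsTerminal.isTerminalObj
        (sheafToPresheaf J (Type u) ⋙ (evaluation Cᵒᵖ (Type u)).obj U) _ terminalIsTerminal)).default⟩
    have hsub : ∀ (U : Cᵒᵖ) (a b : (⊤_ (Sheaf J (Type u))).obj.obj U), a = b := fun U a b =>
      ((Types.isTerminalEquivUnique _ (IsTerminal.isTerminalObj
        (sheafToPresheaf J (Type u) ⋙ (evaluation Cᵒᵖ (Type u)).obj U) _ terminalIsTerminal)).uniq a).trans
      ((Types.isTerminalEquivUnique _ (IsTerminal.isTerminalObj
        (sheafToPresheaf J (Type u) ⋙ (evaluation Cᵒᵖ (Type u)).obj U) _ terminalIsTerminal)).uniq b).symm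
    let s : ∀ U, S.X₂.obj.obj U := fun U => (σ.hom.app U (hne U).some).1
    let l : ZZ J ⟶ S.X₂ := glob s fun {U V} h => by
      refine (congrArg Subtype.val (ConcreteCategory.congr_hom (σ.hom.naturality h) (hne U).some)).symm.trans ?_
      exact congrArg (fun a => (σ.hom.app V a).1) (hsub V _ _)
    have hlq : l ≫ S.g = q := hom_ext fun U => by
      rw [ev_comp, ev_glob]
      exact (σ.hom.app U (hne U).some).2
    rw [← hlq, ← Ext.mk₀_comp_mk₀, Ext.comp_assoc_of_second_deg_zero, hS.comp_extClass, Ext.comp_zero]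

end Groth.Agent.H15Site.TorsH1
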